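import Mathlib

/-!
# Sums over strictly decreasing tuples of products of determinants of roots of unity

The tools behind the genus-zero Verlinde identities: symmetrisation, Cauchy–Binet, orthogonality.
-/

set_option autoImplicit false
open Finset

namespace Groth.Agent.Verlinde

/-- `exp (2πi t)`. -/
noncomputable def E (t : ℂ) : ℂ := Complex.exp (2 * Real.pi * Complex.I * t)

theorem E_add (s t : ℂ) : E (s + t) = E s * E t := by rw [E, E, E, ← Complex.exp_add]; ring_nf

theorem E_zero : E 0 = 1 := by simp [E]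

theorem E_ne_zero (t : ℂ) : E t ≠ 0 := Complex.exp_ne_zero _

theorem E_int (n : ℤ) : E (n : ℂ) = 1 := by
  rw [E, show 2 * (Real.pi : ℂ) * Complex.I * (n : ℂ) = (n : ℂ) * (2 * Real.pi * Complex.I) by ring]
  exact Complex.exp_int_mul_two_pi_mul_I n

theorem E_sum {ι : Type*} (s : Finset ι) (f : ι → ℂ) : E (∑ i ∈ s, f i) = ∏ i ∈ s, E (f i) := by
  rw [E, mul_sum, Complex.exp_sum]; rfl

theorem E_div_eq_one_iff (N : ℕ) (hN : N ≠ 0) (d : ℤ) : E ((d : ℂ) / N) = 1 ↔ (N : ℤ) ∣ d := by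
  rw [E, Complex.exp_eq_one_iff]
  constructor
  · rintro ⟨q, hq⟩
    refine ⟨q, ?_⟩
    have h1 : (d : ℂ) / N = q := mul_left_cancel₀ Complex.two_pi_I_ne_zero (by rw [hq]; ring)
    rw [div_eq_iff (by exact_mod_cast hN)] at h1
    exact_mod_cast (show (d : ℂ) = (((N : ℤ) * q : ℤ) : ℂ) by push_cast; rw [h1]; ring)
  · rintro ⟨q, rfl⟩
    refine ⟨q, ?_⟩
    push_cast
    field_simp

theorem geom (N : ℕ) (hN : N ≠ 0) (d : ℤ) :
    ∑ t : Fin N, E ((d : ℂ) * ((t : ℕ) : ℂ) / N) = if (N : ℤ) ∣ d then (N : ℂ) else 0 := by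
  have hp : ∀ t : Fin N, E ((d : ℂ) * ((t : ℕ) : ℂ) / N) = E ((d : ℂ) / N) ^ (t : ℕ) := fun t => by
    rw [E, E, ← Complex.exp_nat_mul]; ring_nf
  rw [Fintype.sum_congr _ _ hp, Fin.sum_univ_eq_sum_range (fun t => E ((d : ℂ) / N) ^ t)]
  by_cases h : (N : ℤ) ∣ d
  · rw [if_pos h, (E_div_eq_one_iff N hN d).mpr h]; simp
  · rw [if_neg h, geom_sum_eq (mt (E_div_eq_one_iff N hN d).mp h)]
    have : E ((d : ℂ) / N) ^ N = 1 := by
      rw [E, ← Complex.exp_nat_mul, show (N : ℂ) * (2 * Real.pi * Complex.I * ((d : ℂ) / N)) = 2 * Real.pi * Complex.I * (d : ℂ) by field_simp]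
      exact E_int d
    rw [this, sub_self, zero_div]

/-- `det (E (e i * x j / N))`. -/
noncomputable def D {r : ℕ} (N : ℕ) (e x : Fin r → ℤ) : ℂ :=
  (Matrix.of fun i j => E ((e i : ℂ) * (x j : ℂ) / N)).det

variable {r : ℕ} (N : ℕ)

theorem D_comm (e x : Fin r → ℤ) : D N e x = D N x e := by
  rw [D, D, ← Matrix.det_transpose]
  congr 1; ext i j; simp [mul_comm]

theorem D_comp_right (e x : Fin r → ℤ) (σ : Equiv.Perm (Fin r)) :
    D N e (x ∘ σ) = ((Equiv.Perm.sign σ : ℤ) : ℂ) * D N e x := by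
  rw [D, D, ← Matrix.det_permute' σ]; rfl

theorem D_comp_left (e x : Fin r → ℤ) (σ : Equiv.Perm (Fin r)) :
    D N (e ∘ σ) x = ((Equiv.Perm.sign σ : ℤ) : ℂ) * D N e x := by
  rw [D_comm, D_comp_right, D_comm]

theorem D_add_const (e x : Fin r → ℤ) (c : ℤ) :
    D N e (fun j => x j + c) = E ((c : ℂ) * (∑ i, (e i : ℂ)) / N) * D N e x := by
  rw [D, D, mul_sum, sum_div, E_sum, ← Matrix.det_mul_column]
  congr 1; ext i j
  simp only [Matrix.of_apply]
  rw [← E_add]; congr 1; push_cast; ring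

theorem D_add_const_left (e x : Fin r → ℤ) (c : ℤ) :
    D N (fun i => e i + c) x = E ((c : ℂ) * (∑ i, (x i : ℂ)) / N) * D N e x := by
  rw [D_comm, D_add_const, D_comm]

theorem D_congr (hN : N ≠ 0) (e x x' : Fin r → ℤ) (h : ∀ j, (N : ℤ) ∣ x' j - x j) : D N e x' = D N e x := by
  rw [D, D]; congr 1; ext i j
  simp only [Matrix.of_apply]
  obtain ⟨q, hq⟩ := h j
  rw [show (e i : ℂ) * (x' j : ℂ) / N = (e i : ℂ) * (x j : ℂ) / N + ((e i * q : ℤ) : ℂ) by
    rw [show x' j = x j + (N : ℤ) * q by omega]; push_cast; field_simp, E_add, E_int, mul_one]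

theorem D_eq_zero_of_not_injective (e x : Fin r → ℤ) (h : ¬ Function.Injective x) : D N e x = 0 := by
  simp only [Function.Injective, not_forall] at h
  obtain ⟨a, b, hab, hne⟩ := h
  exact Matrix.det_zero_of_column_eq hne fun i => by simp [hab]

/-- Reversed exponents `r - 1 - i`. -/
def stair (r : ℕ) : Fin r → ℤ := fun i => ((r - 1 - (i : ℕ) : ℕ) : ℤ)

theorem stair_eq (i : Fin r) : stair r i = (r : ℤ) - 1 - (i : ℕ) := by
  have := i.2; simp only [stair]; omega

theorem D_neg_stair (x : Fin r → ℤ) :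
    D N (fun i => -stair r i) x = ((Equiv.Perm.sign (Fin.revPerm (n := r)) : ℤ) : ℂ) *
      E (-(((r : ℂ) - 1) * (∑ i, (x i : ℂ))) / N) * D N (stair r) x := by
  have h : (fun i => -stair r i) = (fun i => stair r i + (-((r : ℤ) - 1))) ∘ Fin.revPerm := by
    funext i
    simp only [Function.comp_apply, Fin.revPerm_apply, stair_eq, Fin.val_rev]
    have := i.2; omega
  rw [h, D_comp_left, D_add_const_left]
  push_cast
  ring_nf

theorem D_stair_ne_zero (hN : N ≠ 0) (x : Fin r → ℤ) (hx : ∀ i j, (N : ℤ) ∣ x i - x j → i = j) :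
    D N (stair r) x ≠ 0 := by
  let w : Fin r → ℂ := fun j => E ((x j : ℂ) / N)
  have h : D N (stair r) x = ((Equiv.Perm.sign (Fin.revPerm (n := r)) : ℤ) : ℂ) * (Matrix.vandermonde w).det := by
    rw [← Matrix.det_transpose (Matrix.vandermonde w), ← Matrix.det_permute]
    rw [D]; congr 1; ext i j
    simp only [Matrix.of_apply, Matrix.submatrix_apply, Matrix.transpose_apply, Matrix.vandermonde_apply, id_eq, w,
      Fin.revPerm_apply, E, ← Complex.exp_nat_mul, stair, Fin.val_rev]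
    congr 1
    push_cast [show r - ((i : ℕ) + 1) = r - 1 - (i : ℕ) by omega]
    ring
  rw [h]
  refine mul_ne_zero (Int.cast_ne_zero.mpr (Units.ne_zero _)) (Matrix.det_vandermonde_ne_zero_iff.mpr fun a b hab => hx a b ?_)
  simp only [w] at hab
  rw [← E_div_eq_one_iff N hN]
  push_cast
  rw [sub_div, sub_eq_add_neg, E_add, hab, ← E_add, add_neg_cancel, E_zero]

theorem sin_sq (a : ℂ) : (2 * Complex.sin (Real.pi * a)) ^ 2 = (1 - E a) * (1 - E (-a)) := by
  have h : E a * E (-a) = 1 := by rw [← E_add, add_neg_cancel, E_zero]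
  have hc : E a + E (-a) = 2 * Complex.cos (2 * (Real.pi * a)) := by
    rw [Complex.two_cos, E, E]; ring_nf
  rw [show (1 - E a) * (1 - E (-a)) = 2 - (E a + E (-a)) by linear_combination h, hc, Complex.cos_two_mul']
  linear_combination (2 : ℂ) * Complex.sin_sq_add_cos_sq ((Real.pi : ℂ) * a)

/-- The product of `(2 sin)²` is `det * conj det` of the Vandermonde matrix. -/
theorem P_eq (x : Fin r → ℤ) :
    ((∏ p ∈ (univ : Finset (Fin r × Fin r)).filter (fun p => p.1 < p.2),
      ((2 : ℝ) * Real.sin (Real.pi * ((x p.1 : ℝ) - (x p.2 : ℝ)) / (N : ℝ))) ^ 2 : ℝ) : ℂ) =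
      D N (stair r) x * D N (fun i => -stair r i) x := by
  let w : Fin r → ℂ := fun j => E ((x j : ℂ) / N)
  let w' : Fin r → ℂ := fun j => E (-((x j : ℂ) / N))
  have h1 : D N (stair r) x = ((Equiv.Perm.sign (Fin.revPerm (n := r)) : ℤ) : ℂ) * (Matrix.vandermonde w).det := by
    rw [← Matrix.det_transpose (Matrix.vandermonde w), ← Matrix.det_permute]
    rw [D]; congr 1; ext i j
    simp only [Matrix.of_apply, Matrix.submatrix_apply, Matrix.transpose_apply, Matrix.vandermonde_apply, id_eq, w,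
      Fin.revPerm_apply, E, ← Complex.exp_nat_mul, stair, Fin.val_rev]
    congr 1
    push_cast [show r - ((i : ℕ) + 1) = r - 1 - (i : ℕ) by omega]
    ring
  have h2 : D N (fun i => -stair r i) x = ((Equiv.Perm.sign (Fin.revPerm (n := r)) : ℤ) : ℂ) * (Matrix.vandermonde w').det := by
    rw [← Matrix.det_transpose (Matrix.vandermonde w'), ← Matrix.det_permute]
    rw [D]; congr 1; ext i j
    simp only [Matrix.of_apply, Matrix.submatrix_apply, Matrix.transpose_apply, Matrix.vandermonde_apply, id_eq, w',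
      Fin.revPerm_apply, E, ← Complex.exp_nat_mul, stair, Fin.val_rev]
    congr 1
    push_cast [show r - ((i : ℕ) + 1) = r - 1 - (i : ℕ) by omega]
    ring
  have hs : ((Equiv.Perm.sign (Fin.revPerm (n := r)) : ℤ) : ℂ) * ((Equiv.Perm.sign (Fin.revPerm (n := r)) : ℤ) : ℂ) = 1 := by
    rw [← Int.cast_mul, ← Units.val_mul, Int.units_mul_self]; simp
  rw [h1, h2, mul_mul_mul_comm, hs, one_mul, Matrix.det_vandermonde, Matrix.det_vandermonde, ← prod_mul_distrib]
  simp only [← prod_mul_distrib]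
  rw [Complex.ofReal_prod, prod_filter, Fintype.prod_prod_type]
  refine prod_congr rfl fun i _ => ?_
  rw [← prod_filter]
  refine prod_congr (by ext; simp) fun j _ => ?_
  push_cast
  rw [show (Real.pi : ℂ) * ((x i : ℂ) - x j) / N = (Real.pi : ℂ) * (((x i : ℂ) - x j) / N) by ring, sin_sq]
  simp only [w, w']
  rw [show -(((x i : ℂ) - x j) / N) = (x j : ℂ) / N + -((x i : ℂ) / N) by ring,
    show ((x i : ℂ) - x j) / N = (x i : ℂ) / N + -((x j : ℂ) / N) by ring, E_add, E_add]
  have a1 : E ((x i : ℂ) / N) * E (-((x i : ℂ) / N)) = 1 := by rw [← E_add, add_neg_cancel, E_zero]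
  have a2 : E ((x j : ℂ) / N) * E (-((x j : ℂ) / N)) = 1 := by rw [← E_add, add_neg_cancel, E_zero]
  linear_combination (E ((x i : ℂ) / N) * E (-((x i : ℂ) / N)) - 1) * a2

section Sums

variable {α : Type*} [Fintype α] [LinearOrder α]

omit [Fintype α] in
theorem exists_perm_strictAnti (x : Fin r → α) (hx : Function.Injective x) :
    ∃ σ : Equiv.Perm (Fin r), StrictAnti (x ∘ σ) := by
  refine ⟨Fin.revPerm.trans (Tuple.sort x), fun a b h => ?_⟩
  have hs : StrictMono (x ∘ Tuple.sort x) := (Tuple.monotone_sort x).strictMono_of_injective (hx.comp (Tuple.sort x).injective)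
  exact hs (Fin.rev_lt_rev.mpr h)

theorem strictAnti_sum (f : (Fin r → α) → ℂ) (hs : ∀ x (σ : Equiv.Perm (Fin r)), f (x ∘ σ) = f x)
    (h0 : ∀ x, ¬ Function.Injective x → f x = 0) :
    ∑ x, f x = (r.factorial : ℂ) * ∑ x ∈ univ.filter (fun x : Fin r → α => StrictAnti x), f x := by
  classical
  have step : ∑ p ∈ (univ.filter (fun x : Fin r → α => StrictAnti x)) ×ˢ (univ : Finset (Equiv.Perm (Fin r))), f (p.1 ∘ p.2) =
      ∑ x ∈ univ.filter (fun x : Fin r → α => Function.Injective x), f x := by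
    refine sum_bij (fun p _ => p.1 ∘ p.2) ?_ ?_ ?_ ?_
    · rintro ⟨x, σ⟩ hp
      simp only [mem_product, mem_filter, mem_univ, true_and, and_true] at hp ⊢
      exact hp.injective.comp σ.injective
    · rintro ⟨x, σ⟩ hp ⟨y, τ⟩ hq h
      simp only [mem_product, mem_filter, mem_univ, true_and, and_true] at hp hq h
      have hxy : x = y := by
        refine (hp.range_inj hq).mp ?_
        rw [← σ.surjective.range_comp x, h, τ.surjective.range_comp y]
      subst hxy
      have : σ = τ := Equiv.ext fun a => hp.injective (congrFun h a)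
      rw [this]
    · intro y hy
      obtain ⟨σ, hσ⟩ := exists_perm_strictAnti y (mem_filter.mp hy).2
      exact ⟨(y ∘ σ, σ.symm), by simp [hσ], by funext a; simp⟩
    · intros; rfl
  rw [← sum_filter_of_ne (p := fun x : Fin r → α => Function.Injective x) (fun x _ hx => by_contra fun h => hx (h0 x h)), ← step, sum_product, mul_sum]
  refine sum_congr rfl fun x _ => ?_
  rw [Fintype.sum_congr _ _ (fun σ => hs x σ), sum_const, card_univ, Fintype.card_perm, Fintype.card_fin, nsmul_eq_mul]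

/-- Sums over strictly decreasing tuples whose last entry is the least element. -/
theorem pinned_sum (l : Fin r) (hl : ∀ i, i ≤ l) (z : α) (hz : ∀ a, z ≤ a) (f : (Fin r → α) → ℂ)
    (hs : ∀ x (σ : Equiv.Perm (Fin r)), f (x ∘ σ) = f x) (h0 : ∀ x, ¬ Function.Injective x → f x = 0) :
    (r : ℂ) * ∑ x ∈ univ.filter (fun x : Fin r → α => x l = z), f x =
      (r.factorial : ℂ) * ∑ x ∈ univ.filter (fun x : Fin r → α => StrictAnti x ∧ x l = z), f x := by
  classical
  let g : (Fin r → α) → ℂ := fun x => if ∃ j, x j = z then f x else 0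
  have hgs : ∀ x (σ : Equiv.Perm (Fin r)), g (x ∘ σ) = g x := fun x σ => by
    have : (∃ j, (x ∘ σ) j = z) ↔ ∃ j, x j = z := (σ.surjective.exists (p := fun y => x y = z)).symm
    simp only [g, hs, this]
  have h := strictAnti_sum g hgs (fun x hx => by simp [g, h0 x hx])
  have lhs : ∑ x, g x = (r : ℂ) * ∑ x ∈ univ.filter (fun x : Fin r → α => x l = z), f x := by
    have e1 : ∀ x, g x = ∑ j, if x j = z then f x else 0 := by
      intro x
      by_cases hx : Function.Injective x
      · by_cases he : ∃ j, x j = z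
        · obtain ⟨j, hj⟩ := he
          rw [sum_eq_single j (fun b _ hb => if_neg fun hb' => hb (hx (hb'.trans hj.symm))) (by simp), if_pos hj]
          exact if_pos ⟨j, hj⟩
        · rw [sum_eq_zero fun j _ => if_neg fun hj => he ⟨j, hj⟩]; exact if_neg he
      · simp [g, h0 x hx]
    rw [Fintype.sum_congr _ _ e1, sum_comm]
    have e2 : ∀ j, (∑ x : Fin r → α, if x j = z then f x else 0) = ∑ x ∈ univ.filter (fun x : Fin r → α => x l = z), f x := by
      intro j
      rw [sum_filter]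
      refine Fintype.sum_equiv (Equiv.arrowCongr (Equiv.swap j l) (Equiv.refl α)) _ _ fun x => ?_
      have hc : (Equiv.arrowCongr (Equiv.swap j l) (Equiv.refl α)) x = x ∘ Equiv.swap j l := by
        funext a; simp [Equiv.arrowCongr]
      rw [hc, hs]
      simp
    rw [Fintype.sum_congr _ _ e2, sum_const, card_univ, Fintype.card_fin, nsmul_eq_mul]
  rw [← lhs, h]
  congr 1
  simp only [g, ← sum_filter, filter_filter]
  refine sum_congr (filter_congr fun x _ => ⟨fun ⟨hx, j, hj⟩ => ⟨hx, ?_⟩, fun ⟨hx, hj⟩ => ⟨hx, l, hj⟩⟩) fun _ _ => rfl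
  exact le_antisymm (hj ▸ hx.antitone (hl j)) (hz _)

omit [LinearOrder α] in
/-- Expansion of a sum over a box of a product of two determinants. -/
theorem sum_box (A B : Fin r → α → ℂ) (c : α → ℂ) (T : Fin r → Finset α) :
    ∑ x ∈ Fintype.piFinset T, (∏ j, c (x j)) * (Matrix.of fun i j => A i (x j)).det * (Matrix.of fun i j => B i (x j)).det =
      ∑ σ : Equiv.Perm (Fin r), ∑ τ : Equiv.Perm (Fin r),
        ((Equiv.Perm.sign σ : ℤ) : ℂ) * ((Equiv.Perm.sign τ : ℤ) : ℂ) * ∏ j, ∑ t ∈ T j, c t * A (σ j) t * B (τ j) t := by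
  simp only [Matrix.det_apply', Matrix.of_apply, mul_sum, sum_mul, prod_univ_sum]
  rw [sum_comm]
  rw [sum_comm]
  rw [show (∑ x ∈ Fintype.piFinset T, ∑ τ : Equiv.Perm (Fin r), ∑ σ : Equiv.Perm (Fin r),
      (∏ j, c (x j)) * (((Equiv.Perm.sign σ : ℤ) : ℂ) * ∏ i, A (σ i) (x i)) * (((Equiv.Perm.sign τ : ℤ) : ℂ) * ∏ i, B (τ i) (x i))) =
    ∑ σ : Equiv.Perm (Fin r), ∑ τ : Equiv.Perm (Fin r), ∑ x ∈ Fintype.piFinset T,
      (∏ j, c (x j)) * (((Equiv.Perm.sign σ : ℤ) : ℂ) * ∏ i, A (σ i) (x i)) * (((Equiv.Perm.sign τ : ℤ) : ℂ) * ∏ i, B (τ i) (x i)) from by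
    rw [sum_comm, sum_congr rfl (fun _ _ => sum_comm), sum_comm]]
  refine sum_congr rfl fun σ _ => sum_congr rfl fun τ _ => sum_congr rfl fun x _ => ?_
  rw [prod_mul_distrib, prod_mul_distrib]
  ring

theorem cauchy_binet (A B : Fin r → α → ℂ) :
    ∑ x ∈ univ.filter (fun x : Fin r → α => StrictAnti x), (Matrix.of fun i j => A i (x j)).det * (Matrix.of fun i j => B i (x j)).det =
      (Matrix.of fun i l => ∑ t, A i t * B l t).det := by
  classical
  refine mul_left_cancel₀ (show (r.factorial : ℂ) ≠ 0 by exact_mod_cast r.factorial_ne_zero) ?_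
  rw [← strictAnti_sum (fun x => (Matrix.of fun i j => A i (x j)).det * (Matrix.of fun i j => B i (x j)).det)]
  · have h := sum_box A B (fun _ => 1) (fun _ => univ)
    simp only [prod_const_one, one_mul, Fintype.piFinset_univ] at h
    rw [h, sum_comm]
    have e : ∀ τ : Equiv.Perm (Fin r), ∑ σ : Equiv.Perm (Fin r), ((Equiv.Perm.sign σ : ℤ) : ℂ) * ((Equiv.Perm.sign τ : ℤ) : ℂ) * ∏ j, ∑ t, A (σ j) t * B (τ j) t =
        (Matrix.of fun i l => ∑ t, A i t * B l t).det := by
      intro τ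
      rw [Matrix.det_apply']
      refine Fintype.sum_equiv (Equiv.mulRight τ⁻¹) _ _ fun σ => ?_
      simp only [Equiv.coe_mulRight, map_mul, Units.val_mul, Int.cast_mul, Equiv.Perm.sign_inv]
      congr 1
      refine Fintype.prod_equiv τ _ _ fun j => ?_
      simp
    rw [Fintype.sum_congr _ _ e, sum_const, card_univ, Fintype.card_perm, Fintype.card_fin, nsmul_eq_mul]
  · intro x σ
    have h1 : ∀ C : Fin r → α → ℂ, (Matrix.of fun i j => C i ((x ∘ σ) j)).det = ((Equiv.Perm.sign σ : ℤ) : ℂ) * (Matrix.of fun i j => C i (x j)).det := fun C => by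
      rw [← Matrix.det_permute' σ]; rfl
    rw [h1, h1, mul_mul_mul_comm, ← Int.cast_mul, ← Units.val_mul, Int.units_mul_self]
    simp
  · intro x hx
    simp only [Function.Injective, not_forall] at hx
    obtain ⟨a, b, hab, hne⟩ := hx
    rw [Matrix.det_zero_of_column_eq hne fun i => by simp [hab], zero_mul]

end Sums

end Groth.Agent.Verlinde
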