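import Mathlib
import Groth.Agent.Verlinde.Basic

/-!
# Orthogonality for sums over strictly decreasing tuples ending in `0`
-/

set_option autoImplicit false
open Finset

namespace Groth.Agent.Verlinde

variable {r : ℕ}

theorem orth_h_comp (N : ℕ) (e e' : Fin r → ℤ) (ξ : ℂ) (x : Fin r → ℤ) (σ : Equiv.Perm (Fin r)) :
    E (-(ξ * ∑ j, ((x ∘ σ) j : ℂ)) / ((r : ℂ) * N)) * D N e (x ∘ σ) * D N e' (x ∘ σ) =
      E (-(ξ * ∑ j, (x j : ℂ)) / ((r : ℂ) * N)) * D N e x * D N e' x := by
  have h1 : ∑ j, ((x ∘ σ) j : ℂ) = ∑ j, (x j : ℂ) := Equiv.sum_comp σ (fun j => (x j : ℂ))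
  have hs : ((Equiv.Perm.sign σ : ℤ) : ℂ) * ((Equiv.Perm.sign σ : ℤ) : ℂ) = 1 := by
    rw [← Int.cast_mul, ← Units.val_mul, Int.units_mul_self]; simp
  rw [h1, D_comp_right, D_comp_right]
  linear_combination (E (-(ξ * ∑ j, (x j : ℂ)) / ((r : ℂ) * N)) * D N e x * D N e' x) * hs

/-- If no permutation matches `e` against `e'` with constant sum, the pinned sum vanishes. -/
theorem orth (N : ℕ) (hN : N ≠ 0) (hr : 1 ≤ r) (e e' : Fin r → ℤ) (ξ : ℤ)
    (hξ : ξ = ∑ i, e i + ∑ i, e' i)
    (hbd : ∀ i l a b, e i + e' l - (e a + e' b) < 2 * (N : ℤ))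
    (hno : ∀ (π : Equiv.Perm (Fin r)) (c : ℤ), ∃ i, e i + e' (π i) ≠ c) :
    ∑ v ∈ (Finset.univ : Finset (Fin r → Fin N)).filter (fun v : Fin r → Fin N => StrictAnti v ∧ ∀ i : Fin r, (i : ℕ) = r - 1 → (v i : ℕ) = 0),
      E (-((ξ : ℂ) * ∑ j, (((v j : ℕ) : ℤ) : ℂ)) / ((r : ℂ) * N)) * D N e (fun j => ((v j : ℕ) : ℤ)) * D N e' (fun j => ((v j : ℕ) : ℤ)) = 0 := by
  classical
  let h : (Fin r → ℤ) → ℂ := fun x => E (-((ξ : ℂ) * ∑ j, (x j : ℂ)) / ((r : ℂ) * N)) * D N e x * D N e' x
  show ∑ v ∈ (Finset.univ : Finset (Fin r → Fin N)).filter (fun v : Fin r → Fin N => StrictAnti v ∧ ∀ i : Fin r, (i : ℕ) = r - 1 → (v i : ℕ) = 0),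
    h (fun j => ((v j : ℕ) : ℤ)) = 0
  have hNp : 0 < N := Nat.pos_of_ne_zero hN
  haveI : NeZero N := ⟨hN⟩
  have hrC : (r : ℂ) ≠ 0 := Nat.cast_ne_zero.mpr (by omega)
  have hNC : (N : ℂ) ≠ 0 := Nat.cast_ne_zero.mpr hN
  have hl : ∀ i : Fin r, i ≤ (⟨r - 1, by omega⟩ : Fin r) := fun i => Fin.le_def.mpr (by have := i.2; simp; omega)
  set l : Fin r := ⟨r - 1, by omega⟩ with hldef
  have hfil : ∀ v : Fin r → Fin N, (∀ i : Fin r, (i : ℕ) = r - 1 → (v i : ℕ) = 0) ↔ v l = 0 := fun v =>
    ⟨fun hv => Fin.ext (by rw [hv l rfl]; simp), fun hv i hi => by rw [show i = l from Fin.ext hi, hv]; simp⟩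
  simp only [hfil]
  by_cases hdvd : (r : ℤ) ∣ ξ
  · obtain ⟨c₀, hc₀⟩ := hdvd
    have hprod : ∀ x : Fin r → ℤ, h x = (∏ j, E (-((c₀ : ℂ) * (x j : ℂ)) / N)) * D N e x * D N e' x := fun x => by
      simp only [h]
      rw [← E_sum, ← sum_div, sum_neg_distrib, ← mul_sum, hc₀]
      push_cast
      congr 3
      field_simp
    have hp := pinned_sum l hl (0 : Fin N) (fun a => Fin.le_def.mpr (Nat.zero_le _)) (fun v => h (fun j => ((v j : ℕ) : ℤ)))
      (fun v σ => orth_h_comp N e e' _ (fun j => ((v j : ℕ) : ℤ)) σ)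
      (fun v hv => by
        simp only [h]
        rw [D_eq_zero_of_not_injective N e _ (fun hi => hv fun a b hab => hi (by simp [hab]))]
        simp)
    suffices hz : ∑ v ∈ univ.filter (fun v : Fin r → Fin N => v l = 0), h (fun j => ((v j : ℕ) : ℤ)) = 0 by
      rw [hz, mul_zero, eq_comm, mul_eq_zero] at hp
      exact hp.resolve_left (by exact_mod_cast r.factorial_ne_zero)
    let T : Fin r → Finset (Fin N) := fun j => if j = l then {0} else univ
    have hT : univ.filter (fun v : Fin r → Fin N => v l = 0) = Fintype.piFinset T := by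
      ext v
      simp only [mem_filter, mem_univ, true_and, Fintype.mem_piFinset, T]
      refine ⟨fun hv j => ?_, fun hv => by simpa using hv l⟩
      split_ifs with hj
      · simp [hj, hv]
      · simp
    rw [hT, sum_congr rfl fun v _ => hprod (fun j => ((v j : ℕ) : ℤ))]
    simp only [D]
    rw [sum_box (fun i (t : Fin N) => E ((e i : ℂ) * (((t : ℕ) : ℤ) : ℂ) / N)) (fun i (t : Fin N) => E ((e' i : ℂ) * (((t : ℕ) : ℤ) : ℂ) / N))
      (fun t : Fin N => E (-((c₀ : ℂ) * (((t : ℕ) : ℤ) : ℂ)) / N)) T]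
    refine sum_eq_zero fun σ _ => sum_eq_zero fun τ _ => ?_
    obtain ⟨j, hj, hjd⟩ : ∃ j, j ≠ l ∧ ¬ (N : ℤ) ∣ (e (σ j) + e' (τ j) - c₀) := by
      by_contra! hall
      have hsum : ∑ j, (e (σ j) + e' (τ j) - c₀) = 0 := by
        rw [sum_sub_distrib, sum_add_distrib, Equiv.sum_comp σ e, Equiv.sum_comp τ e', sum_const, card_univ, Fintype.card_fin,
          nsmul_eq_mul, ← hξ, hc₀]
        ring
      have hdl : ∀ j, (N : ℤ) ∣ (e (σ j) + e' (τ j) - c₀) := by
        intro j
        by_cases hj : j = l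
        · rw [← add_sum_erase _ _ (mem_univ j)] at hsum
          rw [show e (σ j) + e' (τ j) - c₀ = -∑ b ∈ univ.erase j, (e (σ b) + e' (τ b) - c₀) by linarith]
          exact dvd_neg.mpr (dvd_sum fun b hb => hall b (hj ▸ (mem_erase.mp hb).1))
        · exact hall j hj
      choose m hm using hdl
      have hm0 : ∀ j, m j = 0 := by
        have hsm : ∑ j, m j = 0 := by
          have : (N : ℤ) * ∑ j, m j = 0 := by rw [mul_sum, ← sum_congr rfl (fun j _ => hm j), hsum]
          exact (mul_eq_zero.mp this).resolve_left (by exact_mod_cast hN)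
        have hd : ∀ a b, m a - m b ≤ 1 := fun a b => by
          by_contra hab
          have h2 : (2 : ℤ) ≤ m a - m b := by omega
          have h3 := hbd (σ a) (τ a) (σ b) (τ b)
          nlinarith [hm a, hm b]
        intro j
        rcases lt_trichotomy (m j) 0 with hneg | h0 | hpos
        · have : ∑ a, m a < 0 := by
            refine sum_neg' (fun a _ => ?_) ⟨j, mem_univ _, hneg⟩
            have := hd a j; omega
          omega
        · exact h0
        · have : 0 < ∑ a, m a := by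
            refine sum_pos' (fun a _ => ?_) ⟨j, mem_univ _, hpos⟩
            have := hd j a; omega
          omega
      obtain ⟨i, hi⟩ := hno (σ.symm.trans τ) c₀
      apply hi
      have := hm (σ.symm i)
      rw [hm0, mul_zero, Equiv.apply_symm_apply] at this
      simp only [Equiv.trans_apply]
      omega
    rw [prod_eq_zero (mem_univ j) (by
      simp only [T, if_neg hj]
      have := geom N hN (e (σ j) + e' (τ j) - c₀)
      rw [if_neg hjd] at this
      rw [← this]
      refine sum_congr rfl fun t _ => ?_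
      rw [← E_add, ← E_add]
      congr 1
      push_cast
      ring), mul_zero]
  · have hζ : E (-(ξ : ℂ) / r) ≠ 1 := fun hc => hdvd (dvd_neg.mp ((E_div_eq_one_iff r (by omega) (-ξ)).mp (by rwa [Int.cast_neg])))
    have hr2 : 2 ≤ r := by
      by_contra hlt
      exact hdvd ((show (r : ℤ) = 1 by omega) ▸ one_dvd _)
    set S := (Finset.univ : Finset (Fin r → Fin N)).filter (fun v : Fin r → Fin N => StrictAnti v ∧ v l = 0) with hS
    let p : Fin r := ⟨r - 2, by omega⟩
    let tv : (Fin r → Fin N) → Fin r → ℕ := fun v i => if (i : ℕ) = 0 then N - (v p : ℕ) else (v ⟨(i : ℕ) - 1, by omega⟩ : ℕ) - (v p : ℕ)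
    let Tm : (Fin r → Fin N) → (Fin r → Fin N) := fun v i => ⟨tv v i % N, Nat.mod_lt _ hNp⟩
    have hvp : ∀ v ∈ S, 0 < (v p : ℕ) := fun v hv => by
      obtain ⟨hv1, hv2⟩ := (mem_filter.mp hv).2
      have := hv1 (show p < l from Fin.lt_def.mpr (by simp [p, hldef]; omega))
      rw [hv2] at this
      exact this
    have hle : ∀ v ∈ S, ∀ a : Fin r, (a : ℕ) < r - 1 → (v p : ℕ) ≤ (v a : ℕ) := fun v hv a ha =>
      (mem_filter.mp hv).2.1.antitone (Fin.le_def.mpr (by simp [p]; omega))
    have htv : ∀ v ∈ S, ∀ i, (Tm v i : ℕ) = tv v i := fun v hv i => by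
      refine Nat.mod_eq_of_lt ?_
      have h1 := hvp v hv
      simp only [tv]
      split_ifs
      · omega
      · have := (v ⟨(i : ℕ) - 1, by omega⟩).2; omega
    have hTS : ∀ v ∈ S, Tm v ∈ S := by
      intro v hv
      refine mem_filter.mpr ⟨mem_univ _, fun a b hab => ?_, Fin.ext ?_⟩
      · rw [Fin.lt_def, htv v hv, htv v hv]
        have hab' : (a : ℕ) < b := hab
        have hb := b.2
        simp only [tv]
        rw [if_neg (show ¬ (b : ℕ) = 0 by omega)]
        have h1 := hle v hv ⟨(b : ℕ) - 1, by omega⟩ (by simp; omega)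
        split_ifs with ha
        · have := (v ⟨(b : ℕ) - 1, by omega⟩).2; have := (v p).2; omega
        · have := (mem_filter.mp hv).2.1 (show (⟨(a : ℕ) - 1, by omega⟩ : Fin r) < ⟨(b : ℕ) - 1, by omega⟩ from Fin.lt_def.mpr (by simp; omega))
          rw [Fin.lt_def] at this
          have h2 := hle v hv ⟨(a : ℕ) - 1, by omega⟩ (by simp; omega)
          omega
      · rw [htv v hv]
        simp only [tv, hldef]
        rw [if_neg (by omega)]
        simp [p, Nat.sub_sub]
    have hTinj : ∀ v ∈ S, ∀ w ∈ S, Tm v = Tm w → v = w := by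
      intro v hv w hw hvw
      have e : ∀ i, tv v i = tv w i := fun i => by rw [← htv v hv, ← htv w hw, hvw]
      have e0 := e ⟨0, by omega⟩
      simp only [tv, if_true] at e0
      have := (v p).2; have := (w p).2
      funext i
      refine Fin.ext ?_
      by_cases hi : (i : ℕ) = r - 1
      · rw [show i = l from Fin.ext hi, (mem_filter.mp hv).2.2, (mem_filter.mp hw).2.2]
      · have hi2 := i.2
        have e1 := e ⟨(i : ℕ) + 1, by omega⟩
        simp only [tv, Nat.succ_ne_zero, if_false, Nat.add_sub_cancel, Fin.eta] at e1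
        have h1 := hle v hv i (by omega); have h2 := hle w hw i (by omega)
        omega
    have hTh : ∀ v ∈ S, h (fun j => ((Tm v j : ℕ) : ℤ)) = E (-(ξ : ℂ) / r) * h (fun j => ((v j : ℕ) : ℤ)) := by
      intro v hv
      let c : ℤ := ((v p : ℕ) : ℤ)
      let y : Fin r → ℤ := fun i => ((v i : ℕ) : ℤ) - c + (if i = l then (N : ℤ) else 0)
      obtain ⟨σ, hσ⟩ : ∃ σ : Equiv.Perm (Fin r), ∀ i : Fin r, ((σ i : Fin r) : ℕ) = if (i : ℕ) = 0 then r - 1 else (i : ℕ) - 1 := by
        refine ⟨Equiv.ofBijective (fun i : Fin r => if (i : ℕ) = 0 then l else ⟨(i : ℕ) - 1, by omega⟩)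
          (Finite.injective_iff_bijective.mp fun a b hab => ?_), fun i => ?_⟩
        · have ha2 := a.2; have hb2 := b.2
          have hab' := congrArg Fin.val hab
          simp only [apply_ite Fin.val, hldef] at hab'
          apply Fin.ext
          split_ifs at hab' <;> omega
        · simp only [Equiv.ofBijective_apply, apply_ite Fin.val, hldef]
      have hy : (fun j => ((Tm v j : ℕ) : ℤ)) = y ∘ σ := by
        funext i
        rw [htv v hv]
        simp only [Function.comp_apply, y, c, tv]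
        have hv0 := (mem_filter.mp hv).2.2
        by_cases hi : (i : ℕ) = 0
        · have : σ i = l := Fin.ext (by rw [hσ, if_pos hi])
          have hp2 := (v p).2
          rw [if_pos hi, this, if_pos rfl, hv0]
          simp only [Fin.val_zero]
          omega
        · have hi2 := i.2
          have : σ i = ⟨(i : ℕ) - 1, by omega⟩ := Fin.ext (by rw [hσ, if_neg hi])
          rw [if_neg hi, this, if_neg (fun hc => by have := congrArg Fin.val hc; simp [hldef] at this; omega)]
          have := hle v hv ⟨(i : ℕ) - 1, by omega⟩ (by simp; omega)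
          omega
      rw [hy]
      have hcomp : h (y ∘ σ) = h y := orth_h_comp N e e' (ξ : ℂ) y σ
      rw [hcomp]
      have hD : ∀ f : Fin r → ℤ, D N f y = E (((-c : ℤ) : ℂ) * (∑ i, (f i : ℂ)) / N) * D N f (fun j => ((v j : ℕ) : ℤ)) := fun f => by
        rw [← D_add_const]
        refine D_congr N hN f _ _ fun j => ?_
        simp only [y]
        split_ifs
        · exact ⟨1, by ring⟩
        · exact ⟨0, by ring⟩
      have hsum : ∑ j, (y j : ℂ) = ∑ j, (((v j : ℕ) : ℤ) : ℂ) - (r : ℂ) * (c : ℂ) + (N : ℂ) := by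
        simp only [y, Int.cast_add, Int.cast_sub, apply_ite (Int.cast : ℤ → ℂ), Int.cast_zero, sum_add_distrib, sum_sub_distrib,
          sum_const, card_univ, Fintype.card_fin, nsmul_eq_mul, sum_ite_eq', mem_univ, if_true, Int.cast_natCast]
      show E (-((ξ : ℂ) * ∑ j, (y j : ℂ)) / ((r : ℂ) * N)) * D N e y * D N e' y = _
      rw [hD, hD, hsum]
      have key : E (-((ξ : ℂ) * (∑ j, (((v j : ℕ) : ℤ) : ℂ) - (r : ℂ) * (c : ℂ) + (N : ℂ))) / ((r : ℂ) * N)) *
          E (((-c : ℤ) : ℂ) * (∑ i, (e i : ℂ)) / N) * E (((-c : ℤ) : ℂ) * (∑ i, (e' i : ℂ)) / N) =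
          E (-(ξ : ℂ) / r) * E (-((ξ : ℂ) * ∑ j, (((v j : ℕ) : ℤ) : ℂ)) / ((r : ℂ) * N)) := by
        rw [← E_add, ← E_add, ← E_add]
        congr 1
        rw [show (ξ : ℂ) = ∑ i, (e i : ℂ) + ∑ i, (e' i : ℂ) by rw [hξ]; push_cast; rfl]
        push_cast
        field_simp
        ring
      simp only [h]
      linear_combination (D N e (fun j => ((v j : ℕ) : ℤ)) * D N e' (fun j => ((v j : ℕ) : ℤ))) * key
    have himg : S.image Tm = S :=
      eq_of_subset_of_card_le (image_subset_iff.mpr hTS) (by rw [card_image_of_injOn (fun v hv w hw => hTinj v hv w hw)])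
    have hfix : ∑ v ∈ S, h (fun j => ((v j : ℕ) : ℤ)) = E (-(ξ : ℂ) / r) * ∑ v ∈ S, h (fun j => ((v j : ℕ) : ℤ)) := by
      conv_lhs => rw [← himg, sum_image (fun v hv w hw => hTinj v hv w hw), sum_congr rfl hTh, ← mul_sum]
    have : (1 - E (-(ξ : ℂ) / r)) * ∑ v ∈ S, h (fun j => ((v j : ℕ) : ℤ)) = 0 := by linear_combination hfix
    exact (mul_eq_zero.mp this).resolve_left (sub_ne_zero.mpr (Ne.symm hζ))

end Groth.Agent.Verlinde
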